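import Cfsg.Agent.Lib.PGroups.ClassTwo
import Cfsg.Agent.Lib.PGroups.Presentations
import Cfsg.Agent.Lib.FPF.UniqueOrderP
import Mathlib.GroupTheory.SpecificGroups.Quaternion

/-!
# A `p`-group of class two all of whose abelian subgroups are cyclic is quaternion of order 8
-/

set_option autoImplicit false

namespace Cfsg.Agent.Lib.PermMod.QuatClass

open Subgroup
open scoped commutatorElement
open Cfsg.Agent.Lib.PGroups.ClassTwo Cfsg.Agent.Lib.PGroups.Presentations

variable {G : Type*} [Group G]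

/-- All abelian subgroups are cyclic. -/
def AbCyc (G : Type*) [Group G] : Prop := ∀ B : Subgroup G, IsMulCommutative B → IsCyclic B

theorem mem_zpowers_of_commute [Finite G] (hcyc : AbCyc G) {x y : G} (h : Commute x y)
    (ho : orderOf x = orderOf y) : x ∈ zpowers y := by
  classical
  let B := closure ({x, y} : Set G)
  have hcomm : ∀ a ∈ ({x, y} : Set G), ∀ b ∈ ({x, y} : Set G), a * b = b * a := by
    rintro a (rfl | rfl) b (rfl | rfl)
    · rfl
    · exact h
    · exact h.symm
    · rfl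
  have hB : IsMulCommutative B := by
    letI := closureCommGroupOfComm hcomm
    exact ⟨⟨mul_comm⟩⟩
  haveI := hcyc B hB
  have hx : x ∈ B := subset_closure (by simp)
  have hy : y ∈ B := subset_closure (by simp)
  let x' : B := ⟨x, hx⟩
  let y' : B := ⟨y, hy⟩
  have hcard : Nat.card (zpowers x') = Nat.card (zpowers y') := by
    rw [Nat.card_zpowers, Nat.card_zpowers, Subgroup.orderOf_mk, Subgroup.orderOf_mk, ho]
  have heq := Cfsg.Agent.Lib.FPF.UniqueOrderP.subgroup_eq_of_card_eq hcard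
  have h1 : x' ∈ zpowers y' := by
    rw [← heq]
    exact mem_zpowers _
  obtain ⟨k, hk⟩ := mem_zpowers_iff.mp h1
  exact mem_zpowers_iff.mpr ⟨k, congrArg Subtype.val hk⟩

theorem comparable [Finite G] {r : ℕ} [hr : Fact r.Prime] (hG : IsPGroup r G) (hcyc : AbCyc G)
    {a b : G} (h : Commute a b) : a ∈ zpowers b ∨ b ∈ zpowers a := by
  have key : ∀ {a b : G} {i j : ℕ}, Commute a b → orderOf a = r ^ i → orderOf b = r ^ j → i ≤ j →
      a ∈ zpowers b := by
    intro a b i j h hi hj hij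
    have hdvd : r ^ (j - i) ∣ orderOf b := by
      rw [hj]
      exact pow_dvd_pow _ (Nat.sub_le _ _)
    have hne : r ^ (j - i) ≠ 0 := pow_ne_zero _ hr.out.ne_zero
    have ho : orderOf (b ^ r ^ (j - i)) = orderOf a := by
      rw [orderOf_pow_of_dvd hne hdvd, hj, hi]
      apply Nat.div_eq_of_eq_mul_right (pow_pos hr.out.pos _)
      rw [← pow_add]
      congr 1
      omega
    have h1 := mem_zpowers_of_commute hcyc (h.pow_right (r ^ (j - i))) ho.symm
    exact (zpowers_le.mpr (pow_mem (mem_zpowers b) _)) h1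
  obtain ⟨i, hi⟩ := IsPGroup.iff_orderOf.mp hG a
  obtain ⟨j, hj⟩ := IsPGroup.iff_orderOf.mp hG b
  rcases le_total i j with hij | hij
  · exact Or.inl (key h hi hj hij)
  · exact Or.inr (key h.symm hj hi hij)

/-- Adjusting `y` by a power of `x`. -/
theorem exists_adjust [Finite G] (hc : ∀ a b : G, ⁅a, b⁆ ∈ center G) {x y : G} {n : ℕ}
    (hcn : ⁅x, y⁆ ^ n = 1) (hy : y ^ n ∈ zpowers (x ^ n)) :
    ∃ (z : G) (m : ℕ), ⁅x, z⁆ = ⁅x, y⁆ ∧ z ^ n = ⁅x, y⁆ ^ (m * n.choose 2) := by
  obtain ⟨k, hk⟩ := mem_zpowers_iff.mp hy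
  have hmem : x ^ (-k) ∈ (zpowers x : Set G) := by
    exact zpow_mem (mem_zpowers x) _
  obtain ⟨s, hs⟩ : ∃ s : ℕ, x ^ s = x ^ (-k) := by
    have h1 : x ^ (-k) ∈ Submonoid.powers x := mem_powers_iff_mem_zpowers.mpr hmem
    obtain ⟨s, hs⟩ := Submonoid.mem_powers_iff _ _ |>.mp h1
    exact ⟨s, hs⟩
  have hyn : y ^ n * (x ^ s) ^ n = 1 := by
    rw [← hk, hs, ← zpow_natCast x n, ← zpow_natCast (x ^ (-k)) n, ← zpow_mul, ← zpow_mul,
      ← zpow_add]
    convert zpow_zero x using 2
    ring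
  refine ⟨y * x ^ s, s, ?_, ?_⟩
  · rw [comm_mul_right hc, comm_pow_right hc]
    have : ⁅x, x⁆ = 1 := commutatorElement_self x
    rw [this, one_pow, mul_one]
  · rw [mul_pow hc, hyn, one_mul]
    have h2 : ⁅x ^ s, y⁆ = ⁅x, y⁆ ^ s := comm_pow_left hc x y s
    rw [h2, ← pow_mul]

/-- Divisibility of binomials. -/
theorem dvd_choose_two_of_odd {n : ℕ} (hn : Odd n) : n ∣ n.choose 2 := by
  obtain ⟨k, rfl⟩ := hn
  rw [Nat.choose_two_right]
  have : (2 * k + 1) * (2 * k + 1 - 1) = 2 * ((2 * k + 1) * k) := by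
    simp only [Nat.add_sub_cancel]
    ring
  rw [this, Nat.mul_div_cancel_left _ (by norm_num)]
  exact dvd_mul_right _ _

theorem choose_two_pow (f : ℕ) : (2 ^ (f + 1)).choose 2 = 2 ^ f * (2 ^ (f + 1) - 1) := by
  rw [Nat.choose_two_right, pow_succ]
  have : 2 ^ f * 2 * (2 ^ f * 2 - 1) = 2 * (2 ^ f * (2 ^ f * 2 - 1)) := by ring
  rw [this, Nat.mul_div_cancel_left _ (by norm_num)]

/-- The key step: either there are no non-commuting elements, or the prime is two and there is an element squaring to the central involution that does not commute with some element. -/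
theorem exists_square_root [Finite G] {r : ℕ} [hr : Fact r.Prime] (hG : IsPGroup r G)
    (hcyc : AbCyc G) (hc : ∀ a b : G, ⁅a, b⁆ ∈ center G) {x y : G} (hxy : ⁅x, y⁆ ≠ 1) :
    r = 2 ∧ ∃ (z₀ x₁ u : G), z₀ ∈ center G ∧ orderOf z₀ = 2 ∧ ⁅x₁, u⁆ ≠ 1 ∧ u ^ 2 = z₀ := by
  classical
  have hrp := hr.out
  obtain ⟨f, hf⟩ := IsPGroup.iff_orderOf.mp hG ⁅x, y⁆
  have hf0 : f ≠ 0 := by
    rintro rfl
    rw [pow_zero, orderOf_eq_one_iff] at hf
    exact hxy hf
  obtain ⟨f, rfl⟩ := Nat.exists_eq_succ_of_ne_zero hf0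
  set n := r ^ (f + 1) with hn
  have hxyn : ⁅x, y⁆ ^ n = 1 := by
    rw [← hf]
    exact pow_orderOf_eq_one _
  have hyxn : ⁅y, x⁆ ^ n = 1 := by
    rw [← commutatorElement_inv, inv_pow, hxyn, inv_one]
  have hcomm : Commute (x ^ n) (y ^ n) := by
    have h1 : ⁅x ^ n, y⁆ = 1 := by rw [comm_pow_left hc, hxyn]
    exact (commutatorElement_eq_one_iff_commute.mp h1).pow_right n
  -- reduce to a pair `(x₁, z)`
  obtain ⟨x₁, y₁, z, m, horder, hz, hcz⟩ : ∃ (x₁ y₁ z : G) (m : ℕ), orderOf ⁅x₁, y₁⁆ = n ∧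
      ⁅x₁, z⁆ = ⁅x₁, y₁⁆ ∧ z ^ n = ⁅x₁, y₁⁆ ^ (m * n.choose 2) := by
    rcases comparable hG hcyc hcomm with h | h
    · obtain ⟨z, m, h1, h2⟩ := exists_adjust hc hyxn h
      refine ⟨y, x, z, m, ?_, h1, h2⟩
      rw [← commutatorElement_inv, orderOf_inv, hf]
    · obtain ⟨z, m, h1, h2⟩ := exists_adjust hc hxyn h
      exact ⟨x, y, z, m, hf, h1, h2⟩
  set c := ⁅x₁, y₁⁆ with hc'
  have hccen : c ∈ center G := hc _ _
  have hcz' : ⁅x₁, z⁆ = c := hz
  -- the central element of order `r`
  let z₀ := c ^ r ^ f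
  have hz₀ord : orderOf z₀ = r := by
    have h1 : r ^ f ∣ orderOf c := by
      rw [horder]
      exact pow_dvd_pow _ (Nat.le_succ f)
    rw [orderOf_pow_of_dvd (pow_ne_zero _ hrp.ne_zero) h1, horder, hn, pow_succ,
      Nat.mul_div_cancel_left _ (pow_pos hrp.pos _)]
  have hz₀cen : z₀ ∈ center G := pow_mem hccen _
  have hz₀ne : z₀ ≠ 1 := by
    intro h
    rw [h, orderOf_one] at hz₀ord
    exact hrp.one_lt.ne hz₀ord
  let u := z ^ r ^ f
  have hu : ⁅x₁, u⁆ = z₀ := by
    change ⁅x₁, z ^ r ^ f⁆ = c ^ r ^ f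
    rw [comm_pow_right hc, hcz']
  have hu1 : u ≠ 1 := by
    intro h
    rw [h, commutatorElement_one_right] at hu
    exact hz₀ne hu.symm
  have hur : u ^ r = z ^ n := by
    change (z ^ r ^ f) ^ r = z ^ r ^ (f + 1)
    rw [← pow_mul, pow_succ]
  -- an element of order `r` is central
  have hcen : ∀ v : G, orderOf v = r → v ∈ center G := by
    intro v hv
    have h1 : Commute v z₀ := (mem_center_iff.mp hz₀cen) v
    have h2 := mem_zpowers_of_commute hcyc h1 (hv.trans hz₀ord.symm)
    exact (zpowers_le.mpr hz₀cen) h2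
  have hunotcen : u ∉ center G := by
    intro h
    have h1 : Commute x₁ u := (mem_center_iff.mp h x₁)
    have := commutatorElement_eq_one_iff_commute.mpr h1
    rw [hu] at this
    exact hz₀ne this
  have hur1 : u ^ r ≠ 1 := by
    intro h
    exact hunotcen (hcen u (orderOf_eq_prime h hu1))
  by_cases hr2 : r = 2
  · subst hr2
    refine ⟨rfl, z₀, x₁, u, hz₀cen, hz₀ord, ?_, ?_⟩
    · rw [hu]
      exact hz₀ne
    · -- `u ^ 2 = z₀`
      have h2 : z₀ ^ 2 = 1 := by
        rw [← hz₀ord]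
        exact pow_orderOf_eq_one _
      rw [hur, hcz, hn, choose_two_pow, ← mul_assoc, mul_comm m, mul_assoc, pow_mul]
      change z₀ ^ (m * (2 ^ (f + 1) - 1)) = z₀
      have hodd : Odd (2 ^ (f + 1) - 1) := by
        apply Nat.Even.sub_odd (Nat.one_le_two_pow) ((even_two).pow_of_ne_zero (by omega)) odd_one
      rcases Nat.even_or_odd m with hm | hm
      · exfalso
        apply hur1
        rw [hur, hcz, hn, choose_two_pow, ← mul_assoc, mul_comm m, mul_assoc, pow_mul]
        change z₀ ^ (m * (2 ^ (f + 1) - 1)) = 1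
        obtain ⟨k, hk⟩ := hm.mul_right (2 ^ (f + 1) - 1)
        rw [hk, ← two_mul, pow_mul, h2, one_pow]
      · obtain ⟨k, hk⟩ := hm.mul hodd
        rw [hk, pow_succ, pow_mul, h2, one_pow, one_mul]
  · exfalso
    have hodd : Odd n := (hrp.odd_of_ne_two hr2).pow
    apply hur1
    rw [hur, hcz]
    obtain ⟨k, hk⟩ := dvd_choose_two_of_odd hodd
    rw [hk, show m * (n * k) = n * (m * k) by ring, pow_mul, ← horder, pow_orderOf_eq_one, one_pow]

/-- A finite `r`-group of class at most two, non-abelian, with all abelian subgroups cyclic, is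
quaternion of order eight. -/
theorem quaternion_of_class_two [Finite G] {r : ℕ} [hr : Fact r.Prime] (hG : IsPGroup r G)
    (hcyc : AbCyc G) (hc : ∀ a b : G, ⁅a, b⁆ ∈ center G) (hna : ¬ IsMulCommutative G) :
    r = 2 ∧ Nonempty (QuaternionGroup 2 ≃* G) := by
  classical
  obtain ⟨x, y, hxy⟩ : ∃ x y : G, ⁅x, y⁆ ≠ 1 := by
    by_contra hcon
    push_neg at hcon
    exact hna ⟨⟨fun a b => commutatorElement_eq_one_iff_commute.mp (hcon a b)⟩⟩
  obtain ⟨hr2, z₀, x₁, u, hz₀cen, hz₀ord, hu, hu2⟩ := exists_square_root hG hcyc hc hxy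
  subst hr2
  refine ⟨rfl, ?_⟩
  have hz2 : z₀ ^ 2 = 1 := by
    rw [← hz₀ord]
    exact pow_orderOf_eq_one _
  have hz1 : z₀ ≠ 1 := by
    intro h
    rw [h, orderOf_one] at hz₀ord
    omega
  have hzc : ∀ g, Commute g z₀ := fun g => (mem_center_iff.mp hz₀cen) g
  have hinv : ∀ v : G, v ^ 2 = 1 → v = 1 ∨ v = z₀ := by
    intro v hv
    by_cases h1 : v = 1
    · exact Or.inl h1
    right
    have ho : orderOf v = 2 := orderOf_eq_prime hv h1
    obtain ⟨k, hk⟩ := mem_zpowers_iff.mp
      (mem_zpowers_of_commute hcyc (hzc v) (ho.trans hz₀ord.symm))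
    rcases Int.even_or_odd' k with ⟨l, rfl | rfl⟩
    · exfalso
      apply h1
      rw [← hk, zpow_mul, zpow_ofNat, hz2, one_zpow]
    · rw [← hk, zpow_add, zpow_mul, zpow_ofNat, hz2, one_zpow, one_mul, zpow_one]
  have hu4 : orderOf u = 4 := by
    apply orderOf_eq_prime_pow (p := 2) (n := 1)
    · rw [pow_one, hu2]
      exact hz1
    · have : u ^ 2 ^ (1 + 1) = (u ^ 2) ^ 2 := by rw [← pow_mul]; norm_num
      rw [this, hu2, hz2]
  have hno4 : ∀ d ∈ center G, orderOf d ≠ 4 := by
    intro d hd h4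
    have h1 : Commute u d := (mem_center_iff.mp hd) u
    have h2 := mem_zpowers_of_commute hcyc h1 (hu4.trans h4.symm)
    have h3 : u ∈ center G := (zpowers_le.mpr hd) h2
    exact hu (commutatorElement_eq_one_iff_commute.mpr ((mem_center_iff.mp h3) x₁))
  have hcen : ∀ v ∈ center G, v = 1 ∨ v = z₀ := by
    intro v hv
    obtain ⟨e, he⟩ := IsPGroup.iff_orderOf.mp hG v
    rcases e with - | e
    · left
      rw [pow_zero, orderOf_eq_one_iff] at he
      exact he
    rcases e with - | e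
    · apply hinv
      have he' : orderOf v = 2 := by simpa using he
      rw [← he']
      exact pow_orderOf_eq_one _
    · exfalso
      have hdvd : 2 ^ e ∣ orderOf v := by
        rw [he]
        exact pow_dvd_pow _ (by omega)
      apply hno4 (v ^ 2 ^ e) (pow_mem hv _)
      rw [orderOf_pow_of_dvd (pow_ne_zero _ (by norm_num)) hdvd, he]
      apply Nat.div_eq_of_eq_mul_right (pow_pos (by norm_num) _)
      ring
  have hcomm : ∀ a b : G, ⁅a, b⁆ = 1 ∨ ⁅a, b⁆ = z₀ := fun a b => hcen _ (hc a b)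
  have hcomm2 : ∀ a b : G, ⁅a, b⁆ ^ 2 = 1 := by
    intro a b
    rcases hcomm a b with h | h <;> rw [h]
    · exact one_pow _
    · exact hz2
  have hsq : ∀ a : G, a ^ 2 = 1 ∨ a ^ 2 = z₀ := by
    intro a
    apply hcen
    rw [mem_center_iff]
    intro g
    have h1 : ⁅a ^ 2, g⁆ = 1 := by rw [comm_pow_left hc, hcomm2]
    exact (commutatorElement_eq_one_iff_commute.mp h1).symm
  have hz0c : ∀ w : G, w = 1 ∨ w = z₀ → w ∈ center G := by
    rintro w (rfl | rfl)
    · exact one_mem _
    · exact hz₀cen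
  have hnc : ∀ a : G, a ∉ center G → a ^ 2 = z₀ := by
    intro a ha
    rcases hsq a with h | h
    · exact absurd (hz0c a (hinv a h)) ha
    · exact h
  have hxn : x ∉ center G := by
    intro h
    exact hxy (commutatorElement_eq_one_iff_commute.mpr ((mem_center_iff.mp h) y).symm)
  have hyn : y ∉ center G := by
    intro h
    exact hxy (commutatorElement_eq_one_iff_commute.mpr ((mem_center_iff.mp h) x))
  have hx2 := hnc x hxn
  have hy2 := hnc y hyn
  have hcxy : ⁅x, y⁆ = z₀ := (hcomm x y).resolve_left hxy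
  have hzinv : z₀⁻¹ = z₀ := by
    rw [inv_eq_iff_mul_eq_one, ← pow_two, hz2]
  have hcyx : ⁅y, x⁆ = z₀ := by
    rw [← commutatorElement_inv, hcxy, hzinv]
  have hcw : ∀ w : G, Commute w x → Commute w y → w = 1 ∨ w = z₀ := by
    intro w h1 h2
    rcases hsq w with h | h
    · exact hinv w h
    · exfalso
      have h3 : (w * x) ^ 2 = 1 := by
        rw [h1.mul_pow, h, hx2, ← pow_two, hz2]
      have h4 := hz0c _ (hinv _ h3)
      have h5 : ⁅w * x, y⁆ = 1 :=
        commutatorElement_eq_one_iff_commute.mpr ((mem_center_iff.mp h4) y).symm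
      rw [comm_mul_left hc, commutatorElement_eq_one_iff_commute.mpr h2, one_mul, hcxy] at h5
      exact hz1 h5
  have hxo : orderOf x = 4 := by
    apply orderOf_eq_prime_pow (p := 2) (n := 1)
    · rw [pow_one, hx2]
      exact hz1
    · have : x ^ 2 ^ (1 + 1) = (x ^ 2) ^ 2 := by rw [← pow_mul]; norm_num
      rw [this, hx2, hz2]
  have hx4 : x ^ 4 = 1 := by
    rw [← hxo]
    exact pow_orderOf_eq_one _
  let U := zpowers x
  have hz₀U : z₀ ∈ U := by
    rw [← hx2]
    exact pow_mem (mem_zpowers x) _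
  have hcU : ∀ w : G, w = 1 ∨ w = z₀ → w ∈ U := by
    rintro w (rfl | rfl)
    · exact one_mem _
    · exact hz₀U
  have hyUinv : y⁻¹ * y⁻¹ = z₀ := by
    have : y⁻¹ * y⁻¹ = (y ^ 2)⁻¹ := by
      rw [pow_two, mul_inv_rev]
    rw [this, hy2, hzinv]
  have hconj : y * x * y⁻¹ = x⁻¹ := by
    have h1 : y * x * y⁻¹ * x⁻¹ = z₀ := hcyx
    have h2 : y * x * y⁻¹ = z₀ * x := by
      rw [← h1]
      group
    rw [h2, ← hx2, ← pow_succ, eq_inv_iff_mul_eq_one, ← pow_succ]
    exact hx4
  have hcomm1 : ∀ w : G, ⁅w, x⁆ = 1 → Commute w x := fun w h =>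
    commutatorElement_eq_one_iff_commute.mp h
  have hcomm1' : ∀ w : G, ⁅w, y⁆ = 1 → Commute w y := fun w h =>
    commutatorElement_eq_one_iff_commute.mp h
  have hzz : z₀ * z₀ = 1 := by
    rw [← pow_two, hz2]
  have hwU : ∀ w : G, w ∈ U ∨ w * y⁻¹ ∈ U := by
    intro w
    rcases hcomm w x with a1 | a1 <;> rcases hcomm w y with a2 | a2
    · left
      exact hcU _ (hcw w (hcomm1 w a1) (hcomm1' w a2))
    · left
      have h1 : w * x ∈ U := by
        apply hcU
        apply hcw
        · apply hcomm1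
          rw [comm_mul_left hc, a1, commutatorElement_self, one_mul]
        · apply hcomm1'
          rw [comm_mul_left hc, a2, hcxy, hzz]
      have h2 : w = w * x * x⁻¹ := by group
      rw [h2]
      exact U.mul_mem h1 (U.inv_mem (mem_zpowers x))
    · right
      have h1 : w * y ∈ U := by
        apply hcU
        apply hcw
        · apply hcomm1
          rw [comm_mul_left hc, a1, hcyx, hzz]
        · apply hcomm1'
          rw [comm_mul_left hc, a2, commutatorElement_self, one_mul]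
      have h2 : w * y⁻¹ = w * y * (y⁻¹ * y⁻¹) := by group
      rw [h2, hyUinv]
      exact U.mul_mem h1 hz₀U
    · right
      have h1 : w * x * y ∈ U := by
        apply hcU
        apply hcw
        · apply hcomm1
          rw [comm_mul_left hc, comm_mul_left hc, a1, commutatorElement_self, mul_one, hcyx, hzz]
        · apply hcomm1'
          rw [comm_mul_left hc, comm_mul_left hc, a2, hcxy, commutatorElement_self, mul_one, hzz]
      have h3 : y⁻¹ * x⁻¹ = x * y⁻¹ := by
        rw [← hconj]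
        group
      have h2 : w * y⁻¹ = w * x * y * (x * z₀) := by
        have h4 : y⁻¹ * x⁻¹ * y⁻¹ = x * z₀ := by
          rw [h3, mul_assoc, hyUinv]
        calc w * y⁻¹ = w * x * y * (y⁻¹ * x⁻¹ * y⁻¹) := by group
          _ = _ := by rw [h4]
      rw [h2]
      exact U.mul_mem h1 (U.mul_mem (mem_zpowers x) hz₀U)
  have hyU : y ∉ zpowers x := by
    intro h
    apply hxy
    obtain ⟨k, rfl⟩ := mem_zpowers_iff.mp h
    exact commutatorElement_eq_one_iff_commute.mpr (Commute.zpow_right (Commute.refl x) k)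
  have hcardU : Nat.card U = 4 := by
    rw [Nat.card_zpowers, hxo]
  have hcard : Nat.card G = 4 * 2 := by
    have hcover : (Set.univ : Set G) = (U : Set G) ∪ (fun g => g * y) '' (U : Set G) := by
      ext w
      simp only [Set.mem_univ, Set.mem_union, Set.mem_image, true_iff]
      rcases hwU w with h | h
      · exact Or.inl h
      · exact Or.inr ⟨_, h, by group⟩
    have hUn : (U : Set G).ncard = 4 := by
      rw [← Nat.card_coe_set_eq]
      exact hcardU
    have hle : Nat.card G ≤ 8 := by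
      rw [← Set.ncard_univ, hcover]
      calc _ ≤ (U : Set G).ncard + ((fun g => g * y) '' (U : Set G)).ncard := Set.ncard_union_le _ _
        _ = 8 := by
          rw [Set.ncard_image_of_injective _ (mul_left_injective y), hUn]
    have hdvd : 4 ∣ Nat.card G := by
      rw [← hcardU]
      exact Subgroup.card_subgroup_dvd_card U
    have hlt : 4 < Nat.card G := by
      rw [← hcardU]
      apply lt_of_le_of_ne (Subgroup.card_le_card_group U)
      intro h
      apply hyU
      have htop : U = ⊤ := Subgroup.eq_top_of_card_eq U h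
      change y ∈ U
      rw [htop]
      exact mem_top y
    omega
  exact nonempty_quaternion_equiv (m := 2) (a := x) (y := y) hxo (by rw [hy2, hx2]) hconj hyU hcard

/-- Class two implies nilpotent. -/
theorem isNilpotent_of_class_two (hc : ∀ a b : G, ⁅a, b⁆ ∈ center G) : Group.IsNilpotent G := by
  rw [Subgroup.nilpotent_iff_lowerCentralSeries]
  refine ⟨2, ?_⟩
  change ⁅⁅(⊤ : Subgroup G), (⊤ : Subgroup G)⁆, (⊤ : Subgroup G)⁆ = ⊥
  rw [commutator_eq_bot_iff_le_centralizer, commutator_le]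
  intro a _ b _
  rw [Subgroup.coe_top, Subgroup.centralizer_univ]
  exact hc a b

/-- A nilpotent finite group whose Sylow subgroups are abelian is abelian. -/
theorem comm_of_sylow_comm [Finite G] (hn : Group.IsNilpotent G)
    (h : ∀ (p : ℕ) [Fact p.Prime] (P : Sylow p G), IsMulCommutative (P : Subgroup G)) :
    IsMulCommutative G := by
  obtain ⟨e⟩ := (Group.isNilpotent_of_finite_tfae (G := G)).out 0 4 |>.mp hn
  refine ⟨⟨fun a b => ?_⟩⟩
  apply e.symm.injective
  rw [map_mul, map_mul]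
  funext p P
  haveI : Fact (p : ℕ).Prime := ⟨Nat.prime_of_mem_primeFactors p.2⟩
  exact Subtype.ext (congrArg Subtype.val ((h p P).is_comm.comm _ _))

/-- In a finite nilpotent group that is non-abelian some Sylow subgroup is non-abelian. -/
theorem exists_sylow_not_comm [Finite G] (hn : Group.IsNilpotent G) (hna : ¬ IsMulCommutative G) :
    ∃ (p : ℕ) (_ : Fact p.Prime) (P : Sylow p G), ¬ IsMulCommutative (P : Subgroup G) := by
  by_contra hcon
  push_neg at hcon
  exact hna (comm_of_sylow_comm hn fun p hp P => hcon p hp P)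

end Cfsg.Agent.Lib.PermMod.QuatClass
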