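import Cfsg.Agent.Lib.PermMod.RegLin
import Cfsg.Agent.Lib.PermMod.QuatClass

/-!
Minimal non-abelian normal subgroups of a linear group regular on the non-zero vectors.
-/

set_option autoImplicit false

namespace Cfsg.Agent.Lib.PermMod.MinNormal

open Subgroup MulAction
open scoped commutatorElement
open Cfsg.Agent.Lib.PermMod.RegLin Cfsg.Agent.Lib.PermMod.QuatClass

variable {p : ℕ} [hp : Fact p.Prime] {V : Type*} [AddCommGroup V] [Module (ZMod p) V] [Finite V]
  {H : Subgroup (V ≃ₗ[ZMod p] V)}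

theorem finite_H (H : Subgroup (V ≃ₗ[ZMod p] V)) : Finite H :=
  Finite.of_injective (fun h : H => (fun v => (h : V ≃ₗ[ZMod p] V) v))
    (fun a b hab => Subtype.ext (LinearEquiv.ext (fun v => congrFun hab v)))

theorem nontrivial_of_not_comm {G : Subgroup H} (h : ¬ IsMulCommutative G) : Nontrivial V := by
  by_contra hcon
  rw [not_nontrivial_iff_subsingleton] at hcon
  apply h
  refine ⟨⟨fun a b => ?_⟩⟩
  apply Subtype.ext
  apply Subtype.ext
  apply LinearEquiv.ext
  intro v
  exact Subsingleton.elim _ _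

theorem isCyclic_of_comm (hreg : Reg H) [Nontrivial V] (B : Subgroup H)
    (hB : IsMulCommutative B) : IsCyclic B := by
  have htop : (⊤ : Submodule (ZMod p) V) ≠ ⊥ := top_ne_bot
  obtain ⟨W₀, -, hW₀⟩ := exists_minInv B htop (inv_top B)
  exact isCyclic_of_minInv hreg B hB hW₀

theorem abCyc_subgroup (hreg : Reg H) [Nontrivial V] (N : Subgroup H) : AbCyc N := by
  intro B hB
  haveI := finite_H H
  let B' : Subgroup H := B.map N.subtype
  have hB' : IsMulCommutative B' := by
    refine ⟨⟨?_⟩⟩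
    rintro ⟨_, x, hx, rfl⟩ ⟨_, y, hy, rfl⟩
    apply Subtype.ext
    have := hB.is_comm.comm (⟨x, hx⟩ : B) ⟨y, hy⟩
    exact congrArg (fun z : B => ((z : N) : H)) this
  haveI := isCyclic_of_comm hreg B' hB'
  let e : B ≃* B' := B.equivMapOfInjective N.subtype N.subtype_injective
  exact isCyclic_of_surjective e.symm e.symm.surjective

/-- A normal abelian subgroup centralising a maximal normal abelian subgroup lies inside it. -/
theorem le_of_comm_max {A Y : Subgroup H} (hAn : A.Normal) (hAc : IsMulCommutative A)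
    (hAmax : ∀ B : Subgroup H, B.Normal → IsMulCommutative B → A ≤ B → B = A)
    (hYn : Y.Normal) (hYc : IsMulCommutative Y) (hYA : Y ≤ centralizer (A : Set H)) : Y ≤ A := by
  have hS : IsMulCommutative (A ⊔ Y : Subgroup H) := by
    have hAY : A ≤ centralizer (Y : Set H) := (le_centralizer_iff).mp hYA
    have hAA : A ≤ centralizer (A : Set H) := by
      intro a ha
      rw [mem_centralizer_iff]
      intro b hb
      exact congrArg Subtype.val (hAc.is_comm.comm (⟨b, hb⟩ : A) ⟨a, ha⟩)
    have hYY : Y ≤ centralizer (Y : Set H) := by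
      intro a ha
      rw [mem_centralizer_iff]
      intro b hb
      exact congrArg Subtype.val (hYc.is_comm.comm (⟨b, hb⟩ : Y) ⟨a, ha⟩)
    have h1 : (A ⊔ Y) ≤ centralizer (A : Set H) := sup_le hAA hYA
    have h2 : (A ⊔ Y) ≤ centralizer (Y : Set H) := sup_le hAY hYY
    refine ⟨⟨?_⟩⟩
    rintro ⟨x, hx⟩ ⟨y, hy⟩
    apply Subtype.ext
    have h3 : (A ⊔ Y) ≤ centralizer ({x} : Set H) := by
      apply sup_le
      · intro a ha
        rw [mem_centralizer_iff]
        rintro _ rfl
        exact (mem_centralizer_iff.mp (h1 hx) a ha).symm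
      · intro a ha
        rw [mem_centralizer_iff]
        rintro _ rfl
        exact (mem_centralizer_iff.mp (h2 hx) a ha).symm
    have h4 := mem_centralizer_iff.mp (h3 hy) x rfl
    exact h4
  have h := hAmax (A ⊔ Y) (Subgroup.sup_normal A Y) hS le_sup_left
  rw [← h]
  exact le_sup_right

/-- A characteristic subgroup of a normal subgroup, viewed in the whole group, is normal. -/
theorem map_normal_of_characteristic {G : Type*} [Group G] {N : Subgroup G} (hN : N.Normal)
    {K : Subgroup N} (hK : K.Characteristic) : (K.map N.subtype).Normal := by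
  constructor
  rintro _ ⟨k, hk, rfl⟩ g
  let φ : MulAut N := MulAut.conjNormal g
  have h1 : φ k ∈ K := by
    have h2 := (Subgroup.characteristic_iff_map_eq.mp hK) φ
    rw [← h2]
    exact ⟨k, hk, rfl⟩
  exact ⟨φ k, h1, rfl⟩

/-- If the derived subgroup of a minimal non-abelian normal subgroup `N` of `H` inside the centraliser of a maximal normal abelian subgroup is abelian, then `N` is quaternion of order eight. -/
theorem quat_of_commutator_comm (hreg : Reg H) {A N : Subgroup H} (hAn : A.Normal)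
    (hAc : IsMulCommutative A)
    (hAmax : ∀ B : Subgroup H, B.Normal → IsMulCommutative B → A ≤ B → B = A)
    (hNn : N.Normal) (hNle : N ≤ centralizer (A : Set H)) (hNna : ¬ IsMulCommutative N)
    (hNmin : ∀ M : Subgroup H, M.Normal → M ≤ N → ¬ IsMulCommutative M → M = N)
    (hcomm : IsMulCommutative (⁅N, N⁆ : Subgroup H)) :
    Nonempty (QuaternionGroup 2 ≃* N) := by
  classical
  haveI := nontrivial_of_not_comm hNna
  haveI := finite_H H
  haveI := hNn
  have hYN : ⁅N, N⁆ ≤ N := Subgroup.commutator_le_left N N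
  have hYA : ⁅N, N⁆ ≤ A := le_of_comm_max hAn hAc hAmax inferInstance hcomm (hYN.trans hNle)
  have hc : ∀ a b : N, ⁅a, b⁆ ∈ center N := by
    intro a b
    rw [mem_center_iff]
    intro g
    apply Subtype.ext
    have h1 : ((⁅a, b⁆ : N) : H) ∈ A := hYA (Subgroup.commutator_mem_commutator a.2 b.2)
    exact (mem_centralizer_iff.mp (hNle g.2) _ h1).symm
  have hnil := isNilpotent_of_class_two hc
  obtain ⟨r, hr, P, hP⟩ := exists_sylow_not_comm hnil hNna
  have hPn : (P : Subgroup N).Normal :=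
    (Group.isNilpotent_of_finite_tfae (G := N)).out 0 3 rfl rfl |>.mp hnil r hr P
  have hPc : (P : Subgroup N).Characteristic := Sylow.characteristic_of_normal P hPn
  let S : Subgroup H := (P : Subgroup N).map N.subtype
  have hSn : S.Normal := map_normal_of_characteristic hNn hPc
  have hSna : ¬ IsMulCommutative S := by
    intro hS
    apply hP
    refine ⟨⟨?_⟩⟩
    rintro ⟨x, hx⟩ ⟨y, hy⟩
    apply Subtype.ext
    apply Subtype.ext
    have := hS.is_comm.comm (⟨(x : H), ⟨x, hx, rfl⟩⟩ : S) ⟨(y : H), ⟨y, hy, rfl⟩⟩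
    have h2 : (x : H) * (y : H) = (y : H) * (x : H) := congrArg Subtype.val this
    exact h2
  have hSN : S = N := hNmin S hSn (Subgroup.map_subtype_le _) hSna
  have hPtop : (P : Subgroup N) = ⊤ := by
    rw [eq_top_iff]
    rintro ⟨x, hx⟩ -
    have h1 : x ∈ S := by rw [hSN]; exact hx
    obtain ⟨y, hy, hyx⟩ := h1
    have : y = ⟨x, hx⟩ := Subtype.ext hyx
    rwa [← this]
  have hNr : IsPGroup r N := by
    have h1 := P.isPGroup'
    rw [hPtop] at h1
    exact IsPGroup.of_equiv h1 Subgroup.topEquiv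
  exact (quaternion_of_class_two hNr (abCyc_subgroup hreg N) hc hNna).2

theorem quat_gen : ∀ u v w : QuaternionGroup 2, u * v ≠ v * u →
    ∃ i j : Fin 4, w = u ^ (i : ℕ) * v ^ (j : ℕ) := by decide +kernel

theorem card_pairs :
    Fintype.card {q : QuaternionGroup 2 × QuaternionGroup 2 // q.1 * q.2 ≠ q.2 * q.1} = 24 := by
  decide +kernel

/-- The automorphism group of the quaternion group of order eight has order dividing `24`. -/
theorem card_mulAut_quaternion_dvd : Nat.card (MulAut (QuaternionGroup 2)) ∣ 24 := by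
  classical
  letI : MulAction (MulAut (QuaternionGroup 2))
      {q : QuaternionGroup 2 × QuaternionGroup 2 // q.1 * q.2 ≠ q.2 * q.1} :=
    { smul := fun g q => ⟨(g q.1.1, g q.1.2), fun h => q.2 (g.injective (by
        simpa [map_mul] using h))⟩
      one_smul := fun q => rfl
      mul_smul := fun g g' q => rfl }
  haveI : Finite (MulAut (QuaternionGroup 2)) :=
    Finite.of_injective (fun g : MulAut (QuaternionGroup 2) => (g : QuaternionGroup 2 → QuaternionGroup 2))
      DFunLike.coe_injective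
  rw [← card_pairs, ← Nat.card_eq_fintype_card]
  apply card_dvd_of_free
  rintro ⟨⟨u, v⟩, huv⟩
  rw [Subgroup.eq_bot_iff_forall]
  intro g hg
  have h1 : (⟨(g u, g v), _⟩ : {q : QuaternionGroup 2 × QuaternionGroup 2 // q.1 * q.2 ≠ q.2 * q.1}) = ⟨(u, v), huv⟩ := hg
  have h2 : g u = u := congrArg (fun q : {q : QuaternionGroup 2 × QuaternionGroup 2 // q.1 * q.2 ≠ q.2 * q.1} => q.1.1) h1
  have h3 : g v = v := congrArg (fun q : {q : QuaternionGroup 2 × QuaternionGroup 2 // q.1 * q.2 ≠ q.2 * q.1} => q.1.2) h1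
  ext w
  obtain ⟨i, j, hw⟩ := quat_gen u v w huv
  rw [hw, map_mul, map_pow, map_pow, h2, h3]
  rfl

/-- The order of a regular group. -/
theorem card_H (hreg : Reg H) [Nontrivial V] :
    Nat.card H = p ^ Module.finrank (ZMod p) V - 1 := by
  classical
  obtain ⟨w, hw0⟩ := exists_ne (0 : V)
  have hbij : Function.Bijective (fun g : H => (⟨(g : V ≃ₗ[ZMod p] V) w,
      fun h0 => hw0 ((map_eq_zero_iff _ (LinearEquiv.injective _)).mp h0)⟩ : {x : V // x ≠ 0})) := by
    constructor
    · intro a b hab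
      have h1 : (a : V ≃ₗ[ZMod p] V) w = (b : V ≃ₗ[ZMod p] V) w := congrArg Subtype.val hab
      obtain ⟨c, -, hc⟩ := hreg w _ hw0 (fun h0 => hw0 ((map_eq_zero_iff _ (LinearEquiv.injective _)).mp h0) : (b : V ≃ₗ[ZMod p] V) w ≠ 0)
      rw [hc a h1, hc b rfl]
    · rintro ⟨x, hx⟩
      obtain ⟨c, hc, -⟩ := hreg w x hw0 hx
      exact ⟨c, Subtype.ext hc⟩
  rw [Nat.card_congr (Equiv.ofBijective _ hbij), card_ne_zero,
    Module.natCard_eq_pow_finrank (K := ZMod p), Nat.card_zmod]

/-- An involution of a regular group is `-1`. -/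
theorem involution_eq_neg (hreg : Reg H) {z : H} (hz : z ^ 2 = 1) (hz1 : z ≠ 1) (v : V) :
    (z : V ≃ₗ[ZMod p] V) v = -v := by
  have h1 : (z : V ≃ₗ[ZMod p] V) ((z : V ≃ₗ[ZMod p] V) v) = v := by
    have := congrArg (fun g : H => (g : V ≃ₗ[ZMod p] V) v) hz
    simpa [pow_two] using this
  by_contra hne
  have hu : (z : V ≃ₗ[ZMod p] V) v + v ≠ 0 := fun h => hne (eq_neg_of_add_eq_zero_left h)
  apply hz1
  apply semireg hreg hu
  rw [map_add, h1, add_comm]

/-- Two is invertible in the field if there is an involution. -/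
theorem two_ne_zero_of_involution (hreg : Reg H) [Nontrivial V] {z : H} (hz : z ^ 2 = 1)
    (hz1 : z ≠ 1) : (2 : ZMod p) ≠ 0 := by
  intro h2
  obtain ⟨v, hv⟩ := exists_ne (0 : V)
  apply hz1
  apply semireg hreg hv
  rw [involution_eq_neg hreg hz hz1]
  have h3 : (2 : ZMod p) • v = 0 := by rw [h2, zero_smul]
  rw [two_smul] at h3
  exact (eq_neg_of_add_eq_zero_left h3).symm

/-- In a quaternion situation there is a square zero operator whose kernel and image agree. -/
theorem exists_half (hreg : Reg H) [Nontrivial V] {a x : H} (hz1 : a ^ 2 ≠ 1) (hz2 : a ^ 4 = 1)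
    (hx2 : x ^ 2 = a ^ 2) (hconj : x * a * x⁻¹ = a⁻¹) :
    ∃ T : V →ₗ[ZMod p] V, LinearMap.range T = LinearMap.ker T ∧
      ∀ g : H, Commute g a → Commute g x → ∀ v,
        T ((g : V ≃ₗ[ZMod p] V) v) = (g : V ≃ₗ[ZMod p] V) (T v) := by
  classical
  have hzz : (a ^ 2) ^ 2 = 1 := by rw [← pow_mul]; exact hz2
  set I : V ≃ₗ[ZMod p] V := (a : V ≃ₗ[ZMod p] V) with hI
  set J : V ≃ₗ[ZMod p] V := (x : V ≃ₗ[ZMod p] V) with hJ
  have hneg := involution_eq_neg hreg hzz hz1
  have hII : ∀ v, I (I v) = -v := by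
    intro v
    rw [← hneg v, pow_two]
    rfl
  have hJJ : ∀ v, J (J v) = -v := by
    intro v
    rw [← hneg v, ← hx2, pow_two]
    rfl
  have hJI : ∀ v, J (I v) = -I (J v) := by
    intro v
    have h1 : x * a = a * a ^ 2 * x := by
      have h2 : x * a * x⁻¹ = a * a ^ 2 := by
        rw [hconj, inv_eq_iff_mul_eq_one, ← pow_succ', ← pow_succ']
        exact hz2
      rw [← h2]
      group
    have h3 := congrArg (fun g : H => (g : V ≃ₗ[ZMod p] V) v) h1
    change J (I v) = I (((a ^ 2 : H) : V ≃ₗ[ZMod p] V) (J v)) at h3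
    rw [h3, hneg, map_neg]
  obtain ⟨a', b', hab⟩ := ZMod.sq_add_sq p (-1 : ZMod p)
  have h2ne : (2 : ZMod p) ≠ 0 := two_ne_zero_of_involution hreg hzz hz1
  let T : V →ₗ[ZMod p] V := a' • (I : V →ₗ[ZMod p] V) + b' • (J : V →ₗ[ZMod p] V)
    + (I : V →ₗ[ZMod p] V) ∘ₗ (J : V →ₗ[ZMod p] V)
  have hT : ∀ v, T v = a' • I v + b' • J v + I (J v) := fun v => rfl
  have hTT : ∀ v, T (T v) = 0 := by
    intro v
    have h1 : T (T v) = -(a' ^ 2 + b' ^ 2 + 1) • v := by
      simp only [hT, map_add, map_smul, hII, hJJ, hJI, map_neg, neg_neg]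
      module
    rw [h1, hab]
    simp
  have hTK : ∀ v, T (I (J v)) + I (J (T v)) = (-2 : ZMod p) • v := by
    intro v
    simp only [hT, map_add, map_smul, hII, hJJ, hJI, map_neg, neg_neg]
    module
  refine ⟨T, ?_, ?_⟩
  · apply le_antisymm
    · rintro _ ⟨v, rfl⟩
      exact hTT v
    · intro v hv
      rw [LinearMap.mem_ker] at hv
      refine ⟨(-2 : ZMod p)⁻¹ • I (J v), ?_⟩
      have h1 := hTK v
      rw [hv, map_zero, map_zero, add_zero] at h1
      rw [map_smul, h1, smul_smul, inv_mul_cancel₀ (neg_ne_zero.mpr h2ne), one_smul]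
  · intro g hga hgx v
    have h1 : ∀ w, I ((g : V ≃ₗ[ZMod p] V) w) = (g : V ≃ₗ[ZMod p] V) (I w) := by
      intro w
      have := congrArg (fun k : H => (k : V ≃ₗ[ZMod p] V) w) hga.symm.eq
      exact this
    have h2 : ∀ w, J ((g : V ≃ₗ[ZMod p] V) w) = (g : V ≃ₗ[ZMod p] V) (J w) := by
      intro w
      have := congrArg (fun k : H => (k : V ≃ₗ[ZMod p] V) w) hgx.symm.eq
      exact this
    simp only [hT, map_add, map_smul, h1, h2]

end Cfsg.Agent.Lib.PermMod.MinNormal
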