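import Mathlib.Algebra.Field.ZMod
import Mathlib.RingTheory.IntegralDomain
import Mathlib.LinearAlgebra.FiniteDimensional.Basic
import Mathlib.LinearAlgebra.Dimension.Finrank
import Mathlib.Algebra.Algebra.Subalgebra.Lattice
import Mathlib.GroupTheory.GroupAction.Quotient
import Mathlib.GroupTheory.GroupAction.ConjAct
import Mathlib.GroupTheory.SpecificGroups.Cyclic
import Mathlib.LinearAlgebra.FiniteDimensional.Lemmas
import Mathlib.FieldTheory.Finiteness

/-!
Linear groups that are regular on the non-zero vectors of a finite vector space over a prime field.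
-/

set_option autoImplicit false

namespace Cfsg.Agent.Lib.PermMod.RegLin

open MulAction

section Schur

variable {F W A : Type*} [Field F] [AddCommGroup W] [Module F W] [Group A] [Finite A]

/-- A finite group acting faithfully through commuting operators on a simple module is cyclic. -/
theorem isCyclic_of_simple (ρ : A →* Module.End F W) (hinj : Function.Injective ρ)
    (hcomm : ∀ a b, ρ a * ρ b = ρ b * ρ a) [Nontrivial W]
    (hsimple : ∀ U : Submodule F W, (∀ a, ∀ v ∈ U, ρ a v ∈ U) → U = ⊥ ∨ U = ⊤) : IsCyclic A := by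
  classical
  have hS : ∀ x ∈ Set.range ρ, ∀ y ∈ Set.range ρ, x * y = y * x := by
    rintro _ ⟨a, rfl⟩ _ ⟨b, rfl⟩
    exact hcomm a b
  letI : CommRing (Algebra.adjoin F (Set.range ρ)) := Algebra.adjoinCommRingOfComm F hS
  let R := Algebra.adjoin F (Set.range ρ)
  have hmem : ∀ a, ρ a ∈ R := fun a => Algebra.subset_adjoin ⟨a, rfl⟩
  let ρ' : A →* R :=
    { toFun := fun a => ⟨ρ a, hmem a⟩
      map_one' := Subtype.ext (map_one ρ)
      map_mul' := fun a b => Subtype.ext (map_mul ρ a b) }
  haveI hdom : NoZeroDivisors R := by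
    constructor
    intro r s hrs
    by_cases hr : r = 0
    · exact Or.inl hr
    right
    have hker : ∀ a, ∀ v ∈ LinearMap.ker (r : Module.End F W), ρ a v ∈ LinearMap.ker (r : Module.End F W) := by
      intro a v hv
      rw [LinearMap.mem_ker] at hv ⊢
      have h1 : r * ρ' a = ρ' a * r := mul_comm _ _
      have h2 : (r : Module.End F W) * ρ a = ρ a * (r : Module.End F W) := congrArg Subtype.val h1
      have h3 := congrArg (fun f : Module.End F W => f v) h2
      simp only [Module.End.mul_apply] at h3
      rw [h3, hv, map_zero]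
    rcases hsimple _ hker with h | h
    · -- `r` injective
      apply Subtype.ext
      apply LinearMap.ext
      intro x
      have h1 : (r : Module.End F W) ((s : Module.End F W) x) = 0 := by
        have h2 : (r : Module.End F W) * (s : Module.End F W) = 0 := congrArg Subtype.val hrs
        have h3 := congrArg (fun f : Module.End F W => f x) h2
        simpa using h3
      have h4 : (s : Module.End F W) x ∈ LinearMap.ker (r : Module.End F W) := h1
      rw [h, Submodule.mem_bot] at h4
      exact h4
    · exfalso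
      apply hr
      apply Subtype.ext
      apply LinearMap.ext
      intro x
      have h4 : x ∈ LinearMap.ker (r : Module.End F W) := by rw [h]; exact Submodule.mem_top
      exact h4
  haveI : Nontrivial R := by
    refine ⟨⟨0, 1, fun h => ?_⟩⟩
    have h1 : (0 : Module.End F W) = 1 := congrArg Subtype.val h
    obtain ⟨x, hx⟩ := exists_ne (0 : W)
    have h2 := congrArg (fun f : Module.End F W => f x) h1
    simp at h2
    exact hx h2.symm
  haveI : IsDomain R := NoZeroDivisors.to_isDomain _
  refine isCyclic_of_injective_ringHom ρ' (fun a b hab => hinj ?_)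
  exact congrArg Subtype.val hab

end Schur

/-- A free action of a finite group on a finite set: the order divides the size of the set. -/
theorem card_dvd_of_free {G X : Type*} [Group G] [MulAction G X] [Finite X] [Finite G]
    (h : ∀ b : X, stabilizer G b = ⊥) : Nat.card G ∣ Nat.card X := by
  rw [Nat.card_congr (MulAction.selfEquivOrbitsQuotientProd h), Nat.card_prod]
  exact dvd_mul_left _ _

theorem card_ne_zero {W : Type*} [Zero W] [Finite W] :
    Nat.card {w : W // w ≠ 0} = Nat.card W - 1 := by
  classical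
  haveI := Fintype.ofFinite W
  rw [Nat.card_eq_fintype_card, Nat.card_eq_fintype_card, Fintype.card_subtype_compl]
  simp

variable {p : ℕ} [hp : Fact p.Prime] {V : Type*} [AddCommGroup V] [Module (ZMod p) V] [Finite V]
  {H : Subgroup (V ≃ₗ[ZMod p] V)}

/-- Invariant subspaces. -/
def Inv (A : Subgroup H) (W : Submodule (ZMod p) V) : Prop :=
  ∀ a ∈ A, ∀ v ∈ W, ((a : H) : V ≃ₗ[ZMod p] V) v ∈ W

/-- Minimal invariant subspaces. -/
def MinInv (A : Subgroup H) (W : Submodule (ZMod p) V) : Prop :=
  W ≠ ⊥ ∧ Inv A W ∧ ∀ W' : Submodule (ZMod p) V, W' ≤ W → Inv A W' → W' = ⊥ ∨ W' = W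

/-- Regularity on non-zero vectors. -/
def Reg (H : Subgroup (V ≃ₗ[ZMod p] V)) : Prop :=
  ∀ v w : V, v ≠ 0 → w ≠ 0 → ∃! h : H, (h : V ≃ₗ[ZMod p] V) v = w

theorem semireg (hreg : Reg H) {h : H} {v : V} (hv : v ≠ 0) (hh : (h : V ≃ₗ[ZMod p] V) v = v) :
    h = 1 :=
  (hreg v v hv hv).unique hh rfl

theorem inv_bot (A : Subgroup H) : Inv A (⊥ : Submodule (ZMod p) V) := by
  intro a _ v hv
  rw [Submodule.mem_bot] at hv ⊢
  rw [hv, map_zero]

theorem inv_top (A : Subgroup H) : Inv A (⊤ : Submodule (ZMod p) V) :=
  fun _ _ _ _ => Submodule.mem_top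

theorem exists_minInv (A : Subgroup H) {W : Submodule (ZMod p) V} (hW : W ≠ ⊥) (hinv : Inv A W) :
    ∃ W₀ ≤ W, MinInv A W₀ := by
  classical
  haveI : Finite (Submodule (ZMod p) V) := Finite.of_injective (fun U => (U : Set V)) SetLike.coe_injective
  let s : Set (Submodule (ZMod p) V) := {U | U ≤ W ∧ U ≠ ⊥ ∧ Inv A U}
  obtain ⟨W₀, hW₀⟩ := (Set.toFinite s).exists_minimal ⟨W, le_refl _, hW, hinv⟩
  refine ⟨W₀, hW₀.1.1, hW₀.1.2.1, hW₀.1.2.2, fun W' hle hinv' => ?_⟩
  by_cases h : W' = ⊥
  · exact Or.inl h
  · right
    have hW's : W' ∈ s := ⟨hle.trans hW₀.1.1, h, hinv'⟩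
    exact le_antisymm hle (hW₀.2 hW's hle)

/-- The restriction of the action of `A` on an invariant subspace. -/
def restrictHom (A : Subgroup H) {W : Submodule (ZMod p) V} (h : Inv A W) :
    A →* Module.End (ZMod p) W where
  toFun a := ((((a : H) : V ≃ₗ[ZMod p] V) : V →ₗ[ZMod p] V)).restrict (fun v hv => h a a.2 v hv)
  map_one' := by
    apply LinearMap.ext
    intro x
    apply Subtype.ext
    rfl
  map_mul' := by
    intro a b
    apply LinearMap.ext
    intro x
    apply Subtype.ext
    rfl

theorem restrictHom_apply (A : Subgroup H) {W : Submodule (ZMod p) V} (h : Inv A W) (a : A) (x : W) :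
    ((restrictHom A h a x : W) : V) = ((a : H) : V ≃ₗ[ZMod p] V) (x : V) := rfl

/-- An abelian subgroup of a regular group is cyclic. -/
theorem isCyclic_of_minInv (hreg : Reg H) (A : Subgroup H) (hAc : IsMulCommutative A)
    {W : Submodule (ZMod p) V} (hW : MinInv A W) : IsCyclic A := by
  classical
  obtain ⟨hne, hinv, hmin⟩ := hW
  haveI : Nontrivial W := Submodule.nontrivial_iff_ne_bot.mpr hne
  obtain ⟨x, hx⟩ := exists_ne (0 : W)
  haveI : Finite H := Finite.of_injective (fun h : H => (fun v => (h : V ≃ₗ[ZMod p] V) v))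
    (fun a b hab => Subtype.ext (LinearEquiv.ext (fun v => congrFun hab v)))
  refine isCyclic_of_simple (restrictHom A hinv) ?_ ?_ ?_
  · intro a b hab
    have h0 : ((a : H) : V ≃ₗ[ZMod p] V) (x : V) = ((b : H) : V ≃ₗ[ZMod p] V) (x : V) :=
      congrArg (fun f : Module.End (ZMod p) W => ((f x : W) : V)) hab
    have h2 : ((b⁻¹ * a : A) : H) = 1 := by
      apply semireg hreg (v := (x : V))
      · exact fun h => hx (Subtype.ext h)
      · change (((b : H) : V ≃ₗ[ZMod p] V)).symm (((a : H) : V ≃ₗ[ZMod p] V) (x : V)) = x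
        rw [h0]
        exact (((b : H) : V ≃ₗ[ZMod p] V)).symm_apply_apply _
    have h3 : b⁻¹ * a = 1 := Subtype.ext h2
    exact (inv_mul_eq_one.mp h3).symm
  · intro a b
    rw [← map_mul, ← map_mul, hAc.is_comm.comm a b]
  · intro U hU
    have hU' : Inv A (U.map W.subtype) := by
      rintro a ha _ ⟨u, hu, rfl⟩
      exact ⟨_, hU ⟨a, ha⟩ u hu, rfl⟩
    rcases hmin _ (Submodule.map_subtype_le W U) hU' with h | h
    · left
      exact Submodule.map_injective_of_injective W.injective_subtype (h.trans (Submodule.map_bot _).symm)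
    · right
      apply Submodule.map_injective_of_injective W.injective_subtype
      rw [h, Submodule.map_top, Submodule.range_subtype]

/-- The order of a subgroup divides `p ^ k - 1`, for an invariant subspace of dimension `k`. -/
theorem card_dvd (hreg : Reg H) (A : Subgroup H) {W : Submodule (ZMod p) V} (hinv : Inv A W) :
    Nat.card A ∣ p ^ Module.finrank (ZMod p) W - 1 := by
  classical
  haveI : Finite H := Finite.of_injective (fun h : H => (fun v => (h : V ≃ₗ[ZMod p] V) v))
    (fun a b hab => Subtype.ext (LinearEquiv.ext (fun v => congrFun hab v)))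
  have hcard : Nat.card {w : W // w ≠ 0} = p ^ Module.finrank (ZMod p) W - 1 := by
    rw [card_ne_zero, Module.natCard_eq_pow_finrank (K := ZMod p), Nat.card_zmod]
  rw [← hcard]
  letI : MulAction A {w : W // w ≠ 0} :=
    { smul := fun a w => ⟨restrictHom A hinv a w.1, by
        intro h0
        apply w.2
        apply Subtype.ext
        have h1 : ((a : H) : V ≃ₗ[ZMod p] V) (w.1 : V) = 0 := congrArg Subtype.val h0
        exact (map_eq_zero_iff _ (LinearEquiv.injective _)).mp h1⟩
      one_smul := fun w => by
        apply Subtype.ext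
        change restrictHom A hinv 1 w.1 = w.1
        rw [map_one]
        rfl
      mul_smul := fun a b w => by
        apply Subtype.ext
        change restrictHom A hinv (a * b) w.1 = restrictHom A hinv a (restrictHom A hinv b w.1)
        rw [map_mul]
        rfl }
  apply card_dvd_of_free
  intro w
  rw [Subgroup.eq_bot_iff_forall]
  intro a ha
  have h1 : (a • w : {w : W // w ≠ 0}) = w := ha
  have h2 : ((a : H) : V ≃ₗ[ZMod p] V) (w.1 : V) = (w.1 : V) := by
    have := congrArg (fun u : {w : W // w ≠ 0} => ((u.1 : W) : V)) h1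
    exact this
  have h3 : ((a : A) : H) = 1 := semireg hreg (fun h => w.2 (Subtype.ext h)) h2
  exact Subtype.ext h3

end Cfsg.Agent.Lib.PermMod.RegLin
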